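import Mathlib

/-!
# Arithmetic for groups of order `p q^b g₀` with `g₀ < p - 1`
-/

set_option autoImplicit false

namespace Cfsg.Agent.Fg24.TuanBrauer

/-- If `2 ^ b ≡ -1` modulo `p = 2 ^ F + 1` and `b < 3 F`, then `b ≤ F`. -/
theorem exp_le {p F b : ℕ} [Fact p.Prime] (hp : p = 2 ^ F + 1) (hp2 : 2 < p)
    (hb : b < 3 * F) (h : p ∣ 2 ^ b + 1) : b ≤ F := by
  by_contra hlt
  have hF : (2 : ZMod p) ^ F = -1 := by
    refine eq_neg_of_add_eq_zero_left ?_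
    have h1 : ((2 ^ F + 1 : ℕ) : ZMod p) = 0 := by rw [← hp, ZMod.natCast_self]
    exact_mod_cast h1
  have hb' : (2 : ZMod p) ^ b = -1 := by
    refine eq_neg_of_add_eq_zero_left ?_
    have h1 : ((2 ^ b + 1 : ℕ) : ZMod p) = 0 := (ZMod.natCast_eq_zero_iff _ _).2 h
    exact_mod_cast h1
  by_cases h2 : b < 2 * F
  · obtain ⟨r, rfl⟩ : ∃ r, b = F + r := ⟨b - F, by omega⟩
    rw [pow_add, hF, neg_one_mul, neg_inj] at hb'
    have h1 : ((2 ^ r - 1 : ℕ) : ZMod p) = 0 := by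
      rw [Nat.cast_sub (Nat.one_le_two_pow)]
      push_cast
      rw [hb', sub_self]
    rw [ZMod.natCast_eq_zero_iff] at h1
    have h3 : 2 ^ r < 2 ^ F := Nat.pow_lt_pow_right (by norm_num) (by omega)
    have h4 : 2 ≤ 2 ^ r := Nat.le_self_pow (by omega) 2
    have := Nat.le_of_dvd (by omega) h1
    omega
  · obtain ⟨r, rfl⟩ : ∃ r, b = F + F + r := ⟨b - (F + F), by omega⟩
    rw [pow_add, pow_add, hF, neg_mul_neg, one_mul, one_mul] at hb'
    have h1 : ((2 ^ r + 1 : ℕ) : ZMod p) = 0 := by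
      push_cast
      rw [hb', neg_add_cancel]
    rw [ZMod.natCast_eq_zero_iff] at h1
    have h3 : 2 ^ r < 2 ^ F := Nat.pow_lt_pow_right (by norm_num) (by omega)
    have := Nat.le_of_dvd (Nat.succ_pos _) h1
    omega

/-- A small degree congruent to `-1` is a power of two. -/
theorem neg_pow_two {p e F b x : ℕ} (hp : p = 2 * e + 1) (hF : 2 * e = 2 ^ F) (he : 1 ≤ e)
    (hx0 : x ≠ 0) (hdvd : x ∣ 2 ^ b * (e + 1)) (hmod : p ∣ x + 1)
    (hle : x ≤ (e + 1) * (e + 1)) : ∃ u, x = 2 ^ u := by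
  obtain ⟨u, d, hd, rfl⟩ := Nat.exists_eq_two_pow_mul_odd hx0
  obtain ⟨k, hk⟩ := hmod
  have hde : d ∣ e + 1 :=
    (Nat.Coprime.pow_right b (Nat.coprime_two_right.2 hd)).dvd_of_dvd_mul_left
      ((dvd_mul_left d (2 ^ u)).trans hdvd)
  rcases Nat.lt_or_ge k 2 with hk2 | hk2
  · rcases Nat.eq_zero_or_pos k with h0 | h0
    · rw [h0, mul_zero] at hk; omega
    · have hk1 : k = 1 := by omega
      rw [hk1, mul_one, hp] at hk
      exact ⟨F, by omega⟩
  exfalso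
  have hxk : 2 ^ u * d + 1 = k * 2 ^ F + k := by rw [hk, hp, hF]; ring
  have hk3 : k ≤ 2 * e := by
    by_contra hlt
    have : (2 * e + 1) * (2 * e + 1) ≤ p * k := by rw [hp]; exact Nat.mul_le_mul_left _ (by omega)
    nlinarith
  rcases Nat.lt_or_ge u F with huF | huF
  · have h1 : 2 ^ u ∣ k * 2 ^ F := (pow_dvd_pow 2 huF.le).trans (dvd_mul_left _ _)
    have h2 : 2 ^ u ∣ k - 1 := by
      rw [← Nat.dvd_add_right h1]
      exact ⟨d, by omega⟩
    have h3 : 2 ^ u ≤ k - 1 := Nat.le_of_dvd (by omega) h2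
    have h4 : d ∣ k + 1 := by
      rw [← Nat.dvd_add_right (dvd_mul_left d (2 ^ u))]
      refine ((hde.mul_left (2 * k))).trans (dvd_of_eq ?_)
      rw [← add_assoc, add_right_comm, hk, hp]
      ring
    have h5 : d ≤ k + 1 := Nat.le_of_dvd (by omega) h4
    have h6 : 2 ^ u * d ≤ (k - 1) * (k + 1) := Nat.mul_le_mul h3 h5
    obtain ⟨j, rfl⟩ : ∃ j, k = j + 1 := ⟨k - 1, by omega⟩
    rw [Nat.add_sub_cancel] at h6
    nlinarith
  · have h1 : 2 ^ F ∣ k * 2 ^ F := dvd_mul_left _ _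
    have h2 : 2 ^ F ∣ k - 1 := by
      rw [← Nat.dvd_add_right h1]
      exact (dvd_mul_of_dvd_left (pow_dvd_pow 2 huF) d).trans (dvd_of_eq (by omega))
    have h3 := Nat.le_of_dvd (by omega) h2
    omega

end Cfsg.Agent.Fg24.TuanBrauer
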