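import Cfsg.Agent.Fg24.HalfDeg.Shape

/-!
# The centralizer of `P` for an exceptional character of small degree
-/

set_option autoImplicit false
set_option linter.unusedSectionVars false

open Cfsg
open scoped ComplexConjugate Classical

namespace Cfsg.Agent.Fg24.TuanBrauer

open Cfsg.Agent.BlockThms.OrderP

universe u

variable {G : Type u} [Group G] [Fintype G]

/-- The sum over a subgroup is a multiple of the order. -/
theorem exists_sum_eq {χ : G → ℂ} (hχ : IsCharacter G χ) (H : Subgroup G) :
    ∃ m : ℕ, ∑ g ∈ Finset.univ.filter (· ∈ H), χ g = (Nat.card H : ℂ) * m := by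
  obtain ⟨m, hm⟩ := Char.classInner_isCharacter_eq_natCast (G := H) (Char.isCharacter_res H hχ)
    (Char.isCharacter_one (G := H))
  refine ⟨m, ?_⟩
  rw [← hm, classInner,
    mul_inv_cancel_left₀ (Nat.cast_ne_zero.2 (Nat.card_pos (α := H)).ne')]
  rw [Finset.sum_subtype (Finset.univ.filter (· ∈ H)) (p := fun g => g ∈ H) (F := inferInstance) (fun g => by simp) χ]
  simp

variable {p : ℕ} [Fact p.Prime] {P : Sylow p G} {e : ℕ}

/-- An exceptional character of degree less than `p`, faithful, forces `C(P) = P`. -/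
theorem centralizer_eq_self (hS : Setup P e) {θ : G → ℂ} (hθ : IsCharacter G θ)
    (hfaith : ∀ g : G, θ g = θ 1 → g = 1) (hdeg : charDegree θ < p)
    (havg : ∀ u ∈ (P : Subgroup G), u ≠ 1 → θ u = avg p θ u) :
    Subgroup.centralizer (P : Set G) = (P : Subgroup G) := by
  have hp : p.Prime := Fact.out
  obtain ⟨K, hKC, hKp, hKmem, -, hcardC, hdec⟩ := hS.exists_complement
  set C := Subgroup.centralizer (P : Set G) with hC
  have hPC : ∀ g ∈ C, Blocks.pPartOf p g ∈ (P : Subgroup G) := by
    intro g hg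
    obtain ⟨a, ha, b, hb, rfl⟩ := hdec g hg
    have hc : Commute a b := (Subgroup.mem_centralizer_iff.1 (hKC hb) a ha)
    rw [← hc.eq, (Blocks.parts_mul hp hc (exists_orderOf_pow ha) ((hKmem b).1 hb).2).1]
    exact ha
  obtain ⟨c₀, hc₀⟩ := exists_sum_eq hθ C
  obtain ⟨m₀, hm₀⟩ := exists_sum_eq hθ (P : Subgroup G)
  obtain ⟨k₀, hk₀⟩ := exists_sum_eq hθ K
  have hone : θ 1 = (charDegree θ : ℂ) := (Blocks.charDegree_cast hθ).symm
  have hfib : ∑ g ∈ Finset.univ.filter (· ∈ C), θ g =
      ∑ u ∈ Finset.univ.filter (· ∈ (P : Subgroup G)),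
        ((if u = 1 then ∑ g ∈ Finset.univ.filter (· ∈ K), θ g - (Nat.card K : ℂ) * θ 1 else 0) +
          (Nat.card K : ℂ) * θ u) := by
    rw [← Finset.sum_fiberwise_of_maps_to (g := Blocks.pPartOf p)
      (t := Finset.univ.filter (· ∈ (P : Subgroup G)))
      (fun g hg => Finset.mem_filter.2 ⟨Finset.mem_univ _, hPC g (Finset.mem_filter.1 hg).2⟩)]
    refine Finset.sum_congr rfl fun u hu => ?_
    have huP := (Finset.mem_filter.1 hu).2
    by_cases hu1 : u = 1
    · subst hu1
      rw [if_pos rfl, sub_add_cancel]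
      refine Finset.sum_congr ?_ fun _ _ => rfl
      ext g
      simp only [Finset.mem_filter, Finset.mem_univ, true_and, hKmem,
        Blocks.pPartOf_eq_one_iff hp]
    · rw [if_neg hu1, zero_add]
      have hset : (Finset.univ.filter (· ∈ C)).filter (fun g => Blocks.pPartOf p g = u) =
          fiber p u := by
        ext g
        simp only [Finset.mem_filter, Finset.mem_univ, true_and, mem_fiber]
        refine ⟨fun h => h.2, fun h => ⟨?_, h⟩⟩
        rw [hC, ← hS.centralizer_eq huP hu1, Subgroup.mem_centralizer_singleton_iff, ← h]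
        exact ((Commute.refl g).pow_right _).eq
      have hcard : (fiber p u).card = Nat.card K := by
        have h := hS.card_fiber huP hu1
        rw [hS.centralizer_eq huP hu1, hcardC, mul_comm p] at h
        exact Nat.eq_of_mul_eq_mul_right hp.pos h
      rw [hset, havg u huP hu1, avg, hcard, mul_inv_cancel_left₀ (Nat.cast_ne_zero.2 Nat.card_pos.ne')]
  rw [Finset.sum_add_distrib, ← Finset.mul_sum, Finset.sum_ite_eq',
    if_pos (Finset.mem_filter.2 ⟨Finset.mem_univ _, one_mem _⟩), hc₀, hm₀, hk₀, hcardC, hS.card,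
    hone] at hfib
  have hK0 : (Nat.card K : ℂ) ≠ 0 := Nat.cast_ne_zero.2 Nat.card_pos.ne'
  have heq : ((charDegree θ + p * c₀ : ℕ) : ℂ) = ((k₀ + p * m₀ : ℕ) : ℂ) := by
    refine mul_left_cancel₀ hK0 ?_
    push_cast at hfib ⊢
    linear_combination hfib
  have heq' : charDegree θ + p * c₀ = k₀ + p * m₀ := by exact_mod_cast heq
  have hre : ∀ g ∈ Finset.univ.filter (· ∈ K), (θ g).re ≤ (charDegree θ : ℝ) := fun g _ =>
    ((Complex.re_le_norm _).trans (Char.IsChar.norm_le hθ g)).trans (le_of_eq (by rw [hone, Complex.natCast_re]))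
  have hcK : (Finset.univ.filter (· ∈ K)).card = Nat.card K := by
    rw [Nat.card_eq_fintype_card, Fintype.card_subtype]
  have hk₀re : ∑ g ∈ Finset.univ.filter (· ∈ K), (θ g).re = (Nat.card K : ℝ) * k₀ := by
    rw [← Complex.re_sum, hk₀, ← Nat.cast_mul, Complex.natCast_re, Nat.cast_mul]
  have hk₀le : k₀ ≤ charDegree θ := by
    have h := Finset.sum_le_sum hre
    rw [hk₀re, Finset.sum_const, hcK, nsmul_eq_mul] at h
    exact_mod_cast le_of_mul_le_mul_left h (by exact_mod_cast Nat.card_pos)
  have hk₀eq : k₀ = charDegree θ := by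
    rcases Nat.lt_trichotomy c₀ m₀ with h | h | h
    · have := Nat.mul_le_mul_left p (Nat.succ_le_of_lt h)
      rw [Nat.mul_succ] at this
      omega
    · subst h; omega
    · have := Nat.mul_le_mul_left p (Nat.succ_le_of_lt h)
      rw [Nat.mul_succ] at this
      omega
  have hKbot : K = ⊥ := by
    refine (Subgroup.eq_bot_iff_forall _).2 fun k hk => hfaith k ?_
    have h := (Finset.sum_eq_sum_iff_of_le hre).1 (by
      rw [hk₀re, Finset.sum_const, hcK, nsmul_eq_mul, hk₀eq]) k
      (Finset.mem_filter.2 ⟨Finset.mem_univ _, hk⟩)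
    have hn := Char.IsChar.norm_le hθ k
    rw [hone, Complex.natCast_re, ← h] at hn
    have hre' : ‖θ k‖ = (θ k).re := le_antisymm hn (Complex.re_le_norm _)
    have him : (θ k).im = 0 := by
      have h2 := Complex.normSq_eq_norm_sq (θ k)
      rw [hre', Complex.normSq_apply] at h2
      nlinarith
    rw [hone]
    exact Complex.ext (by rw [h, Complex.natCast_re]) (by rw [him, Complex.natCast_im])
  rw [hKbot, Subgroup.card_bot, mul_one] at hcardC
  exact (Subgroup.eq_of_le_of_card_ge hS.le_centralizer (by rw [hcardC, hS.card])).symm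

end Cfsg.Agent.Fg24.TuanBrauer
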