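import Cfsg.Agent.Fg24.HalfDeg.Count
import Cfsg.Agent.Fg24.TuanBrauer.Arith
import Cfsg.Agent.Fg24.TuanBrauer.Cent

/-!
# The order of a simple group with `e = (p - 1) / 2` and order `p 2^b (e + 1)`
-/

set_option autoImplicit false
set_option linter.unusedSectionVars false

open Cfsg
open scoped ComplexConjugate Classical

namespace Cfsg.Agent.Fg24.TuanBrauer

open Cfsg.Agent.BlockThms.OrderP Cfsg.Agent.Fg24.HalfDeg

universe u

variable {G : Type u} [Group G] [Fintype G]

/-- A nontrivial irreducible character of a simple group is faithful. -/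
theorem faithful_of_simple [IsSimpleGroup G] {χ : IrrCharacter G} (hne : χ ≠ Blocks.triv G)
    (g : G) (hg : (χ : G → ℂ) g = (χ : G → ℂ) 1) : g = 1 := by
  set K := Char.kerSubgroup (Char.IsIrr.isCharacter χ.2) with hK
  rcases (inferInstance : K.Normal).eq_bot_or_eq_top with h | h
  · have hgK : g ∈ K := (Char.mem_kerSubgroup _).2 hg
    rwa [h, Subgroup.mem_bot] at hgK
  exfalso
  have hconst : ∀ a, (χ : G → ℂ) a = (χ : G → ℂ) 1 := fun a =>
    (Char.mem_kerSubgroup _).1 (h ▸ Subgroup.mem_top a)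
  have h0 := Char.classInner_irr_ne χ.2 (Blocks.triv G).2 fun e => hne (Subtype.ext e)
  rw [classInner, Finset.sum_congr rfl (g := fun _ => (χ : G → ℂ) 1) (fun a _ => by
    rw [hconst a]; simp [Blocks.triv]), Finset.sum_const, Finset.card_univ, nsmul_eq_mul,
    ← Nat.card_eq_fintype_card, inv_mul_cancel_left₀ Char.card_ne_zero] at h0
  exact Char.IsIrr.one_ne_zero χ.2 h0

theorem center_eq_bot [IsSimpleGroup G] (hnc : ¬ ∀ a b : G, a * b = b * a) :
    Subgroup.center G = ⊥ :=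
  (inferInstance : (Subgroup.center G).Normal).eq_bot_or_eq_top.resolve_right fun h =>
    hnc fun a b => Subgroup.mem_center_iff.1 (h ▸ Subgroup.mem_top b) a

/-- Elements of absolute value `χ(1)` are central. -/
theorem mem_center_of_norm {χ : IrrCharacter G}
    (hfaith : ∀ g : G, (χ : G → ℂ) g = (χ : G → ℂ) 1 → g = 1) {g : G}
    (h : ‖(χ : G → ℂ) g‖ = charDegree (χ : G → ℂ)) : g ∈ Subgroup.center G := by
  obtain ⟨n, ρ, -, hρ⟩ := χ.2
  have hn : (charDegree (χ : G → ℂ) : ℝ) = (Module.finrank ℂ (Fin n → ℂ) : ℝ) := by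
    have h : (charDegree (χ : G → ℂ) : ℂ) = (Module.finrank ℂ (Fin n → ℂ) : ℂ) := by
      rw [Blocks.charDegree_cast (Char.IsIrr.isCharacter χ.2), ← hρ, ρ.char_one]
    exact_mod_cast h
  obtain ⟨ω, hω, -⟩ := Char.scalar_of_norm_character_eq ρ g (by rw [hρ, h, hn])
  refine Subgroup.mem_center_iff.2 fun a => ?_
  refine mul_inv_eq_one.1 (hfaith _ ?_)
  rw [← hρ]
  show LinearMap.trace ℂ _ (ρ (a * g * (g * a)⁻¹)) = LinearMap.trace ℂ _ (ρ 1)
  have h2 : ρ (a * g) = ρ (g * a) := by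
    rw [map_mul, map_mul, hω, smul_mul_assoc, mul_smul_comm]
    exact congrArg (ω • ·) ((mul_one (ρ a)).trans (one_mul (ρ a)).symm)
  rw [map_mul, h2, ← map_mul, mul_inv_cancel]

/-- A structure constant as a count. -/
theorem multConst_eq (a b g : G) :
    (Nat.card G : ℂ) * multConst a b g = (Nat.card (Subgroup.centralizer ({g} : Set G)) : ℂ) *
      ((Finset.univ.filter fun c : G => IsConj (c * a * c⁻¹ * b) g).card : ℂ) := by
  rw [multConst, Finset.mul_sum, Finset.sum_congr rfl (g := fun χ : IrrCharacter G =>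
    ∑ c : G, (χ : G → ℂ) (c * a * c⁻¹ * b) * conj ((χ : G → ℂ) g)) (fun χ _ => by
      have h := CharArith.classMult χ.2 a b
      have hd := Char.IsIrr.one_ne_zero χ.2
      rw [← Finset.sum_mul]
      field_simp
      linear_combination -(conj ((χ : G → ℂ) g)) * h), Finset.sum_comm,
    Finset.sum_congr rfl (g := fun c => if IsConj (c * a * c⁻¹ * b) g then
      (Nat.card (Subgroup.centralizer ({g} : Set G)) : ℂ) else 0) (fun c _ => ?_),
    ← Finset.sum_filter, Finset.sum_const, nsmul_eq_mul, mul_comm]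
  split_ifs with hc
  · rw [Finset.sum_congr rfl (g := fun χ : IrrCharacter G =>
      (χ : G → ℂ) g * conj ((χ : G → ℂ) g)) (fun χ _ => by
        rw [Char.classFun_isConj (Char.isClassFunction_of_isIrr χ.2) hc]),
      Char.second_orthogonality, if_pos (IsConj.refl g)]
  · rw [Char.second_orthogonality, if_neg hc]

variable {p : ℕ} [Fact p.Prime] {P : Sylow p G} {e : ℕ}

/-- Pairs of conjugates of an involution with product conjugate to an element of order `p`. -/
theorem card_sq_le (hS : Setup P e) (hcent : Subgroup.centralizer (P : Set G) = (P : Subgroup G))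
    (hp2 : p ≠ 2) {z : G} (hz : z ≠ 1) (hzz : z * z = 1) {x : G} (hx : x ∈ (P : Subgroup G))
    (hx1 : x ≠ 1) {c₀ : G} (hc₀ : IsConj (c₀ * z * c₀⁻¹ * z) x) :
    Nat.card (Subgroup.centralizer ({z} : Set G)) * Nat.card (Subgroup.centralizer ({z} : Set G)) ≤
      (Finset.univ.filter fun c : G => IsConj (c * z * c⁻¹ * z) x).card := by
  set C := Subgroup.centralizer ({z} : Set G) with hC
  have hmem : ∀ w ∈ C, w * z = z * w := fun w hw => Subgroup.mem_centralizer_singleton_iff.1 hw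
  rw [← Nat.card_prod, ← Nat.card_eq_finsetCard]
  refine Nat.card_le_card_of_injective (fun a => ⟨(a.1 : G) * c₀ * a.2, ?_⟩) ?_
  · refine Finset.mem_filter.2 ⟨Finset.mem_univ _, IsConj.trans ?_ hc₀⟩
    refine (isConj_iff.2 ⟨(a.1 : G), ?_⟩).symm
    have h1 := hmem _ a.1.2
    have h2 := hmem _ a.2.2
    calc (a.1 : G) * (c₀ * z * c₀⁻¹ * z) * (a.1 : G)⁻¹
        = (a.1 : G) * c₀ * z * c₀⁻¹ * (z * (a.1 : G)⁻¹) := by group
      _ = (a.1 : G) * c₀ * z * c₀⁻¹ * ((a.1 : G)⁻¹ * z) := by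
        rw [show z * (a.1 : G)⁻¹ = (a.1 : G)⁻¹ * z from
          (show Commute z (a.1 : G) from h1.symm).inv_right.eq]
      _ = (a.1 : G) * c₀ * ((a.2 : G) * z * (a.2 : G)⁻¹) * c₀⁻¹ * (a.1 : G)⁻¹ * z := by
        rw [h2, mul_inv_cancel_right]
        group
      _ = _ := by group
  · rintro ⟨⟨h, hh⟩, ⟨h', hh'⟩⟩ ⟨⟨l, hl⟩, ⟨l', hl'⟩⟩ hEq
    have hEq' : h * c₀ * h' = l * c₀ * l' := congrArg Subtype.val hEq
    set m := l⁻¹ * h with hm
    have hmC : m ∈ C := mul_mem (inv_mem hl) hh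
    have hm' : c₀⁻¹ * m * c₀ ∈ C := by
      have h1 : c₀⁻¹ * m * c₀ = l' * h'⁻¹ := by
        rw [hm, show c₀⁻¹ * (l⁻¹ * h) * c₀ = c₀⁻¹ * l⁻¹ * (h * c₀ * h') * h'⁻¹ by group, hEq']
        group
      rw [h1]
      exact mul_mem hl' (inv_mem hh')
    have hmg : m * (c₀ * z * c₀⁻¹ * z) = (c₀ * z * c₀⁻¹ * z) * m := by
      have h1 := hmem _ hm'
      have h2 := hmem _ hmC
      calc m * (c₀ * z * c₀⁻¹ * z) = c₀ * ((c₀⁻¹ * m * c₀) * z) * c₀⁻¹ * z := by group
        _ = c₀ * (z * (c₀⁻¹ * m * c₀)) * c₀⁻¹ * z := by rw [h1]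
        _ = c₀ * z * c₀⁻¹ * (m * z) := by group
        _ = c₀ * z * c₀⁻¹ * (z * m) := by rw [h2]
        _ = _ := by group
    obtain ⟨k, hk⟩ := isConj_iff.1 hc₀
    have hkm : k * m * k⁻¹ ∈ (P : Subgroup G) := by
      rw [← hcent, ← hS.centralizer_eq hx hx1, Subgroup.mem_centralizer_singleton_iff, ← hk,
        show k * m * k⁻¹ * (k * (c₀ * z * c₀⁻¹ * z) * k⁻¹) =
          k * (m * (c₀ * z * c₀⁻¹ * z)) * k⁻¹ by group, hmg]
      group
    have hm1 : m = 1 := by
      by_contra hne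
      have hkm1 : k * m * k⁻¹ ≠ 1 := fun h => hne (conj_eq_one_iff.1 h)
      have hkz : k * z * k⁻¹ ∈ (P : Subgroup G) := by
        rw [← hcent, ← hS.centralizer_eq hkm hkm1, Subgroup.mem_centralizer_singleton_iff,
          show k * z * k⁻¹ * (k * m * k⁻¹) = k * (z * m) * k⁻¹ by group, ← hmem _ hmC]
        group
      have h2 := pow_eq_one_of_mem hS.card hkz
      rw [conj_pow, conj_eq_one_iff] at h2
      have h3 : orderOf z = 2 := orderOf_eq_prime (by rw [pow_two, hzz]) hz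
      refine hp2 (((Nat.prime_dvd_prime_iff_eq Nat.prime_two (Fact.out : p.Prime)).1 ?_).symm)
      exact h3 ▸ orderOf_dvd_of_pow_eq_one h2
    have hhl : h = l := (inv_mul_eq_one.1 hm1).symm
    subst hhl
    have hl'' : h' = l' := mul_left_cancel hEq'
    subst hl''
    rfl

/-- The principal block forces `2 ^ b = p - 1`. -/
theorem card_lt [IsSimpleGroup G] (hnc : ¬ ∀ a b : G, a * b = b * a) (hS : Setup P e)
    (hsq : ¬ p ^ 2 ∣ Nat.card G) (he : 2 ≤ e) (hhalf : 2 * e + 1 = p) {f b : ℕ}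
    (hf : e = 2 ^ f) (hcard : Nat.card G = p * 2 ^ b * (e + 1)) {θ : IrrCharacter G}
    (hne : θ ≠ Blocks.triv G) (hdeg : charDegree (θ : G → ℂ) = e + 1)
    (havg : ∀ u ∈ (P : Subgroup G), u ≠ 1 → (θ : G → ℂ) u = avg p (θ : G → ℂ) u) :
    Nat.card G < p ^ 3 := by
  have hp : p.Prime := Fact.out
  have hcent : Subgroup.centralizer (P : Set G) = (P : Subgroup G) :=
    centralizer_eq_self hS (Char.IsIrr.isCharacter θ.2) (faithful_of_simple hne)
      (by omega) havg
  have hZ := center_eq_bot (G := G) hnc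
  have hZ1 : ∀ k ∈ Subgroup.center G, k = 1 := fun k hk => by rwa [hZ, Subgroup.mem_bot] at hk
  obtain ⟨x, hx, hx1, hxo⟩ := hS.exists_gen
  obtain ⟨-, U, hU, hUc, hUN, hUc'⟩ := hS.exists_unitSet hx hxo
  let D : Dat P e :=
    { setup := hS, x := x, x_mem := hx, x_ord := hxo, U := U, unit := hU, U_card := hUc
      conj_U := hUN, U_conj := hUc'
      center_reg := by rw [hZ, Subgroup.card_bot]; exact hp.not_dvd_one
      dec := fun c hc => by
        rw [hcent] at hc
        obtain ⟨t, ht⟩ := hS.exists_pw hx hxo hc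
        exact ⟨t, 1, one_mem _, by rw [mul_one, ht]⟩
      half := hhalf, two_le := he }
  obtain ⟨Q, hQ, hQd⟩ := D.exists_triv_couple
  have hover : ∀ ψ χ : IrrCharacter G, χ ∈ Over ψ := fun ψ χ =>
    mem_Over.2 fun k hk => by rw [hZ1 k hk, cchar_one, cchar_one]
  -- the degree of the exceptional characters
  have hQdeg : charDegree (Q.α : G → ℂ) = e + 1 := by
    by_cases ha : θ = Q.α
    · rw [← ha, hdeg]
    by_cases hb : θ = Q.β
    · rw [← Q.deg_eq, ← hb, hdeg]
    exfalso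
    obtain ⟨zz, -, hzor, hzd⟩ := D.const_value hsq θ (fun t ht =>
      Q.out_const (hover _ _) ha hb (t := t) ht)
    rw [hdeg, Int.modEq_iff_dvd] at hzd
    have := Int.le_of_dvd (by rcases hzor with h | h | h <;> rw [h] <;> push_cast <;> omega)
      ((dvd_neg).2 hzd)
    rcases hzor with h | h | h <;> rw [h] at this <;> push_cast at this <;> omega
  have hσ : Q.σ = 1 := by
    rcases Q.σ_or with h | h
    · exact h
    exfalso
    rw [hQdeg, h, Int.modEq_iff_dvd] at hQd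
    have h1 : (p : ℤ) ∣ 1 := by
      rw [← dvd_neg]
      refine dvd_trans hQd (dvd_of_eq ?_)
      push_cast
      ring
    exact hp.not_dvd_one (Int.natCast_dvd_natCast.1 h1)
  obtain ⟨⟨hSp, hSn⟩, -, -⟩ := identity hsq Q Q Q Q.diff_mul_conj
    (fun k hk => by rw [hZ1 k hk, cchar_one, map_one, mul_one])
  rw [if_pos hσ, hQdeg] at hSp
  rw [if_neg (by rw [hσ]; decide), add_zero, hQdeg] at hSn
  -- `2 ^ b ≡ -1`
  have hb1 : p ∣ 2 ^ b + 1 := by
    have hN := D.toLoc.card_G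
    rw [hZ, Subgroup.card_bot, mul_one, hcard] at hN
    have hN' : 2 ^ b * (e + 1) = Nat.card (Sylow p G) * e :=
      Nat.eq_of_mul_eq_mul_left hp.pos (by linear_combination hN)
    have h1 := congrArg (fun m : ℕ => (m : ZMod p)) hN'
    have h2 : ((Nat.card (Sylow p G) : ℕ) : ZMod p) = 1 := by
      rw [← Nat.cast_one, ZMod.natCast_eq_natCast_iff]
      exact card_sylow_modEq_one p G
    have h3 : (2 : ZMod p) * e + 1 = 0 := by
      have h := congrArg (fun m : ℕ => (m : ZMod p)) hhalf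
      simpa using h
    push_cast at h1
    rw [h2, one_mul] at h1
    rw [← ZMod.natCast_eq_zero_iff]
    push_cast
    linear_combination 2 * h1 - ((2 : ZMod p) ^ b - 1) * h3
  have hb0 : b ≠ 0 := by
    intro h
    rw [h] at hb1
    have := Nat.le_of_dvd (by norm_num) hb1
    norm_num at this
    omega
  -- a central involution of a Sylow 2-subgroup
  obtain ⟨S⟩ := (inferInstance : Nonempty (Sylow 2 G))
  have hS2 : 2 ^ b ∣ Nat.card (S : Subgroup G) :=
    S.pow_dvd_card_of_pow_dvd_card ⟨p * (e + 1), by rw [hcard]; ring⟩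
  obtain ⟨z, hz, hzz, hzS⟩ : ∃ z : G, z ≠ 1 ∧ z * z = 1 ∧
      (S : Subgroup G) ≤ Subgroup.centralizer ({z} : Set G) := by
    have hnt : Nontrivial (S : Subgroup G) := by
      refine Finite.one_lt_card_iff_nontrivial.1 (lt_of_lt_of_le ?_ (Nat.le_of_dvd Nat.card_pos hS2))
      exact Nat.one_lt_two_pow hb0
    have := S.isPGroup'.center_nontrivial
    have h2 : 2 ∣ Nat.card (Subgroup.center (S : Subgroup G)) := by
      obtain ⟨k, hk⟩ := IsPGroup.iff_card.1 (S.isPGroup'.to_subgroup (Subgroup.center (S : Subgroup G)))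
      rw [hk]
      refine dvd_pow_self 2 fun h0 => ?_
      rw [h0, pow_zero] at hk
      exact (Finite.one_lt_card (α := Subgroup.center (S : Subgroup G))).ne' hk
    obtain ⟨⟨⟨z, hzS⟩, hzc⟩, hzo⟩ := exists_prime_orderOf_dvd_card' 2 h2
    rw [Subgroup.orderOf_mk, Subgroup.orderOf_mk] at hzo
    refine ⟨z, fun h => by rw [h, orderOf_one] at hzo; omega, ?_, fun w hw => ?_⟩
    · rw [← pow_two, ← hzo, pow_orderOf_eq_one]
    · rw [Subgroup.mem_centralizer_singleton_iff]
      exact congrArg Subtype.val (Subgroup.mem_center_iff.1 hzc ⟨w, hw⟩)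
  set C := Subgroup.centralizer ({z} : Set G) with hC
  have hCb : 2 ^ b ≤ Nat.card C :=
    Nat.le_of_dvd Nat.card_pos (hS2.trans (Subgroup.card_dvd_of_le hzS))
  have hodd : ¬ 2 ∣ C.index := fun h => S.not_dvd_index (h.trans (Subgroup.index_dvd_of_le hzS))
  have hreal : ∀ χ : IrrCharacter G, conj ((χ : G → ℂ) z) = (χ : G → ℂ) z := fun χ => by
    rw [← Char.IsChar.inv_eq_conj (Char.IsIrr.isCharacter χ.2), inv_eq_of_mul_eq_one_right hzz]
  -- the characters with value `-1` vanish at `z`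
  have hneg : ∀ χ ∈ Q.neg, (χ : G → ℂ) z = 0 := by
    intro χ hχ
    have hd := (Q.z_spec hsq (Finset.filter_subset _ _ hχ)).2.2
    rw [(Finset.mem_filter.1 hχ).2, Int.modEq_iff_dvd] at hd
    have hmod : p ∣ charDegree (χ : G → ℂ) + 1 := by
      rw [← Int.natCast_dvd_natCast, ← dvd_neg]
      refine dvd_trans hd (dvd_of_eq ?_)
      push_cast
      ring
    have hle : charDegree (χ : G → ℂ) ≤ (e + 1) * (e + 1) :=
      (Finset.single_le_sum (f := fun χ : IrrCharacter G => charDegree (χ : G → ℂ))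
        (fun _ _ => Nat.zero_le _) hχ).trans hSn
    have hdvd : charDegree (χ : G → ℂ) ∣ p * (2 ^ b * (e + 1)) := by
      rw [← mul_assoc, ← hcard]
      exact Char.IsIrr.degree_dvd_card χ.2
        (Blocks.charDegree_cast (Char.IsIrr.isCharacter χ.2)).symm
    have hcop : (charDegree (χ : G → ℂ)).Coprime p := by
      refine (hp.coprime_iff_not_dvd.2 fun h => ?_).symm
      exact hp.not_dvd_one ((Nat.dvd_add_right h).1 hmod)
    obtain ⟨u, hu⟩ := neg_pow_two (p := p) (e := e) (F := f + 1) hhalf.symm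
      (by rw [pow_succ, ← hf, mul_comm]) (by omega) (Blocks.charDegree_pos χ.2).ne'
      (hcop.dvd_of_dvd_mul_left hdvd) hmod hle
    refine (Char.IsIrr.zero_or_norm_eq χ.2 z
      (Blocks.charDegree_cast (Char.IsIrr.isCharacter χ.2)).symm ?_).resolve_right fun hn => ?_
    · rw [hu]
      exact Nat.Coprime.pow_left _ (Nat.prime_two.coprime_iff_not_dvd.2 hodd)
    · refine hz (hZ1 z (mem_center_of_norm (faithful_of_simple fun h => ?_) hn))
      have h1 := Q.val_neg hsq hχ (t := 1) one_ne_zero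
      rw [h] at h1
      simp [Blocks.triv] at h1
      norm_num at h1
  -- the structure constant
  set g := pw x (1 : ZMod p) with hg
  set a := Complex.normSq ((Q.α : G → ℂ) z) with ha
  obtain ⟨r, hr⟩ : ∃ r : ℝ, r = a / ((e : ℝ) + 1) +
      ∑ χ ∈ Q.pos, Complex.normSq ((χ : G → ℂ) z) / (charDegree (χ : G → ℂ) : ℝ) := ⟨_, rfl⟩
  have hsq' : ∀ χ : IrrCharacter G, (χ : G → ℂ) z * (χ : G → ℂ) z =
      (Complex.normSq ((χ : G → ℂ) z) : ℂ) := fun χ => by rw [← Complex.mul_conj, hreal]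
  have hval : multConst z z g = (r : ℂ) := by
    have h1 : multConst z z g = ∑ χ ∈ Over Q.α,
        (χ : G → ℂ) z * (χ : G → ℂ) z * conj ((χ : G → ℂ) g) / (χ : G → ℂ) 1 :=
      (Finset.sum_congr (Finset.eq_univ_iff_forall.2 (hover _)) fun _ _ => rfl).symm
    rw [h1, Q.sum_over_eq hsq (fun χ _ h => by
      show _ * conj ((χ : G → ℂ) g) / _ = 0
      rw [hg, h, map_zero, mul_zero, zero_div]),
      Finset.sum_eq_zero (s := Q.neg) (fun χ hχ => by rw [hneg χ hχ]; simp),
      Finset.sum_congr rfl (g := fun χ : IrrCharacter G =>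
        ((Complex.normSq ((χ : G → ℂ) z) / (charDegree (χ : G → ℂ) : ℝ) : ℝ) : ℂ))
        (fun χ hχ => by
          rw [hsq', hg, Q.val_pos hsq hχ one_ne_zero, map_one, mul_one,
            ← Blocks.charDegree_cast (Char.IsIrr.isCharacter χ.2)]
          push_cast
          rfl), hr]
    have hzreg : ¬ p ∣ orderOf z := fun h => by
      have h3 : orderOf z = 2 := orderOf_eq_prime (by rw [pow_two, hzz]) hz
      rw [h3] at h
      have := Nat.le_of_dvd (by norm_num) h
      omega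
    have hconj : conj Q.A + conj Q.B = 1 := by
      rw [← map_add, Q.sum_eq, hσ, Int.cast_one, map_one]
    rw [hg, Q.val 1 one_ne_zero, Q.val' 1 one_ne_zero, if_pos D.unit.one, if_pos D.unit.one,
      Q.reg z hzreg, Q.reg 1 Q.not_one, hsq', Q.deg_cast, hQdeg, ← ha]
    push_cast
    linear_combination ((a : ℂ) / ((e : ℂ) + 1)) * hconj
  have hdpos : ∀ χ : IrrCharacter G, (0 : ℝ) < charDegree (χ : G → ℂ) := fun χ => by
    exact_mod_cast Blocks.charDegree_pos χ.2
  have hrpos : 0 < r := by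
    rw [hr]
    have h1 : (0 : ℝ) ≤ a / ((e : ℝ) + 1) := div_nonneg (Complex.normSq_nonneg _) (by positivity)
    refine add_pos_of_nonneg_of_pos h1 (Finset.sum_pos' (fun χ _ =>
      div_nonneg (Complex.normSq_nonneg _) (hdpos χ).le) ⟨_, Q.triv_mem_pos hsq hQ, ?_⟩)
    exact div_pos (by simp [Blocks.triv]) (hdpos _)
  have hbound : ∀ χ : IrrCharacter G,
      Complex.normSq ((χ : G → ℂ) z) / (charDegree (χ : G → ℂ) : ℝ) ≤ charDegree (χ : G → ℂ) := by
    intro χ
    have h := Char.IsChar.norm_le (Char.IsIrr.isCharacter χ.2) z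
    rw [← Blocks.charDegree_cast (Char.IsIrr.isCharacter χ.2), Complex.natCast_re] at h
    rw [div_le_iff₀ (hdpos χ), Complex.normSq_eq_norm_sq, sq]
    exact mul_le_mul h h (norm_nonneg _) (hdpos χ).le
  have hrle : r ≤ ((e : ℝ) + 1) * ((e : ℝ) + 1) := by
    have h1 := hbound Q.α
    rw [hQdeg, ← ha] at h1
    push_cast at h1
    have h2 := Finset.sum_le_sum fun χ (_ : χ ∈ Q.pos) => hbound χ
    have h3 : ((∑ χ ∈ Q.pos, charDegree (χ : G → ℂ) : ℕ) : ℝ) + ((e : ℝ) + 1) ≤
        ((e : ℝ) + 1) * ((e : ℝ) + 1) := by exact_mod_cast hSp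
    push_cast at h3
    rw [hr]
    linarith
  have hcg : Nat.card (Subgroup.centralizer ({g} : Set G)) = p := by
    rw [hg, hS.centralizer_eq (D.pw_mem 1) (D.pw_ne one_ne_zero), hcent, hS.card]
  have hcount := multConst_eq z z g
  rw [hval, hcg] at hcount
  set T := Finset.univ.filter fun c : G => IsConj (c * z * c⁻¹ * z) g with hT
  have hcountR : (Nat.card G : ℝ) * r = (p : ℝ) * (T.card : ℝ) := by exact_mod_cast hcount
  obtain ⟨c₀, hc₀⟩ : T.Nonempty := by
    rw [Finset.nonempty_iff_ne_empty]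
    intro h
    rw [h, Finset.card_empty, Nat.cast_zero, mul_zero, mul_eq_zero, Nat.cast_eq_zero] at hcountR
    exact hcountR.elim Nat.card_pos.ne' hrpos.ne'
  have hle := card_sq_le hS hcent (by omega) hz hzz (D.pw_mem 1) (D.pw_ne one_ne_zero)
    (Finset.mem_filter.1 hc₀).2
  have hkey : 2 ^ b ≤ (e + 1) ^ 3 := by
    have h1 : ((2 : ℝ) ^ b) * (2 : ℝ) ^ b ≤ (T.card : ℝ) := by
      exact_mod_cast (Nat.mul_le_mul hCb hCb).trans hle
    have h2 : (0 : ℝ) < (p : ℝ) * 2 ^ b := mul_pos (by exact_mod_cast hp.pos) (by positivity)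
    have h4 : (p : ℝ) * 2 ^ b * (2 : ℝ) ^ b ≤ (p : ℝ) * 2 ^ b * ((e : ℝ) + 1) ^ 3 := by
      calc (p : ℝ) * 2 ^ b * (2 : ℝ) ^ b = (p : ℝ) * ((2 : ℝ) ^ b * 2 ^ b) := by ring
        _ ≤ (p : ℝ) * T.card := mul_le_mul_of_nonneg_left h1 (Nat.cast_nonneg _)
        _ = (Nat.card G : ℝ) * r := hcountR.symm
        _ ≤ (Nat.card G : ℝ) * (((e : ℝ) + 1) * ((e : ℝ) + 1)) :=
          mul_le_mul_of_nonneg_left hrle (Nat.cast_nonneg _)
        _ = _ := by rw [hcard]; push_cast; ring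
    exact_mod_cast le_of_mul_le_mul_left h4 h2
  have h2e : 2 * e = 2 ^ (f + 1) := by rw [pow_succ, ← hf, mul_comm]
  have hb3 : b < 3 * (f + 1) := by
    refine (Nat.pow_lt_pow_iff_right (by norm_num : 1 < 2)).1 (lt_of_le_of_lt hkey ?_)
    rw [mul_comm 3, pow_mul, ← h2e]
    exact Nat.pow_lt_pow_left (by omega) (by norm_num)
  have hbF : b ≤ f + 1 := exp_le (p := p) (by omega) (by omega) hb3 hb1
  have hle2 : 2 ^ b ≤ 2 * e := h2e ▸ Nat.pow_le_pow_right (by norm_num) hbF
  rw [hcard, pow_succ', pow_two, mul_assoc]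
  refine Nat.mul_lt_mul_of_pos_left ?_ hp.pos
  calc 2 ^ b * (e + 1) ≤ 2 * e * (e + 1) := Nat.mul_le_mul_right _ hle2
    _ < p * p := by subst hhalf; nlinarith

end Cfsg.Agent.Fg24.TuanBrauer
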