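import Cfsg.Agent.Fg24.TuanBrauer.Main
import Cfsg.Agent.Classical.SmallSimple
import Cfsg.Agent.Fg24.Brauer.PSL

/-!
# Simple groups of order `p r q^b`
-/

set_option autoImplicit false
set_option linter.unusedSectionVars false

open Cfsg
open scoped Classical

namespace Cfsg.Agent.Fg24.TuanBrauer

universe u

/-- Arithmetic: `r q^b = 2^a X` with `X` odd and a multiple of `3`. -/
theorem three_eq {r q b a X : ℕ} (hr : r.Prime) (hq : q.Prime) (ha : 2 ≤ a) (hX : ¬ 2 ∣ X)
    (h3 : 3 ∣ X) (h : r * q ^ b = 2 ^ a * X) : X = 3 := by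
  have h2 : 2 ∣ r * q ^ b := h ▸ dvd_mul_of_dvd_left (dvd_pow_self 2 (by omega)) X
  have h3' : 3 ∣ r * q ^ b := h ▸ dvd_mul_of_dvd_right h3 _
  have key : r = 3 ∧ q = 2 := by
    rcases (Nat.prime_two.dvd_mul).1 h2 with h2r | h2q
    · exfalso
      have hr2 : r = 2 := ((Nat.prime_dvd_prime_iff_eq Nat.prime_two hr).1 h2r).symm
      subst hr2
      rcases (Nat.prime_three.dvd_mul).1 h3' with h' | h'
      · omega
      · have hq3 : q = 3 := ((Nat.prime_dvd_prime_iff_eq Nat.prime_three hq).1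
          (Nat.prime_three.dvd_of_dvd_pow h')).symm
        subst hq3
        obtain ⟨a', rfl⟩ : ∃ a', a = a' + 2 := ⟨a - 2, by omega⟩
        have h4 : 2 ∣ 3 ^ b := ⟨2 ^ a' * X, by rw [pow_add] at h; linarith⟩
        exact absurd (Nat.prime_two.dvd_of_dvd_pow h4) (by norm_num)
    · have hq2 : q = 2 := ((Nat.prime_dvd_prime_iff_eq Nat.prime_two hq).1
        (Nat.prime_two.dvd_of_dvd_pow h2q)).symm
      subst hq2
      rcases (Nat.prime_three.dvd_mul).1 h3' with h' | h'
      · exact ⟨((Nat.prime_dvd_prime_iff_eq Nat.prime_three hr).1 h').symm, rfl⟩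
      · exact absurd (Nat.prime_three.dvd_of_dvd_pow h') (by norm_num)
  obtain ⟨rfl, rfl⟩ := key
  have hd : X ∣ 3 :=
    ((Nat.coprime_two_left.2 (Nat.odd_iff.2 (by omega))).pow_left b).symm.dvd_of_dvd_mul_right
      ⟨2 ^ a, by rw [h, mul_comm]⟩
  rcases (Nat.dvd_prime Nat.prime_three).1 hd with h' | h'
  · rw [h'] at h3; norm_num at h3
  · exact h'

theorem exp_even {p m : ℕ} (hp : p.Prime) (h : p = 2 ^ m + 1) (h3 : 3 < p) : Even m := by
  rcases Nat.even_or_odd m with he | ⟨k, rfl⟩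
  · exact he
  exfalso
  have hd : 3 ∣ p := by
    rw [h]
    have hk : Odd (2 * k + 1) := ⟨k, rfl⟩
    simpa using hk.nat_add_dvd_pow_add_pow 2 1
  rcases hp.eq_one_or_self_of_dvd 3 hd with h' | h' <;> omega

variable {G : Type u} [Group G] [Fintype G] [IsSimpleGroup G]

/-- The two groups. -/
def Small (G : Type u) [Group G] : Prop :=
  (∃ (F : Type) (_ : Field F) (_ : Fintype F), Fintype.card F = 5 ∧
    Nonempty (G ≃* Matrix.ProjectiveSpecialLinearGroup (Fin 2) F)) ∨
  (∃ (F : Type) (_ : Field F) (_ : Fintype F), Fintype.card F = 7 ∧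
    Nonempty (G ≃* Matrix.ProjectiveSpecialLinearGroup (Fin 2) F))

theorem of_sixty (h : Nat.card G = 60) : Small G := by
  haveI : Fact (Nat.Prime 5) := ⟨by norm_num⟩
  obtain ⟨P⟩ := (inferInstance : Nonempty (Sylow 5 G))
  obtain ⟨hP, hidx⟩ := Classical.Small.sylow_card_eq P (m := 12) (by rw [h]) (by norm_num)
  have h1 := Classical.Small.sylow_card_ne_one P (by rw [h]; norm_num) (by rw [hP, h]; norm_num)
  have hd := P.card_dvd_index
  rw [hidx] at hd
  have hmod := card_sylow_modEq_one 5 G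
  have hle := Nat.le_of_dvd (by norm_num) hd
  have h6 : Nat.card (Sylow 5 G) = 6 := by
    obtain ⟨n, hn⟩ : ∃ n, n = Nat.card (Sylow 5 G) := ⟨_, rfl⟩
    rw [← hn] at h1 hd hle hmod ⊢
    interval_cases n <;> revert hd hmod <;> norm_num [Nat.ModEq] <;> omega
  obtain ⟨F, iF, iFF, hF, hφ⟩ := Brauer.PSL.recognition (G := G) (p := 5) (m := 2) (by norm_num)
    le_rfl (by rw [h]) h6
  exact Or.inl ⟨F, iF, iFF, hF, hφ⟩

theorem three_primes_lt (hG : ¬ IsCyclic G) {p q r b : ℕ} (hp : p.Prime) (hq : q.Prime)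
    (hr : r.Prime) (hpq : p ≠ q) (hcard : Nat.card G = p * r * q ^ b) (hrp : r < p) :
    Small G := by
  haveI := Fact.mk hp
  by_cases hr1 : r = p - 1
  · exfalso
    have hr2 : r = 2 := by
      rcases hp.eq_two_or_odd with h | h
      · have := hr.two_le; omega
      rcases hr.eq_two_or_odd with h' | h'
      · exact h'
      · omega
    haveI : Fact (Nat.Prime r) := ⟨hr⟩
    haveI : Fact (Nat.Prime 2) := ⟨Nat.prime_two⟩
    subst hr2
    have hodd : ¬ 2 ∣ p * q ^ b := by
      intro h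
      rcases Nat.prime_two.dvd_mul.1 h with h | h
      · have := (Nat.prime_dvd_prime_iff_eq Nat.prime_two hp).1 h; omega
      · have hq2 := (Nat.prime_dvd_prime_iff_eq Nat.prime_two hq).1 (Nat.prime_two.dvd_of_dvd_pow h)
        subst hq2
        -- `G` has order `3 * 2 ^ (b + 1)`
        have hp3 : p = 3 := by omega
        subst hp3
        have hsol := Char.isSolvable_of_card_eq 2 3 Nat.prime_two Nat.prime_three _ G rfl
          ⟨b + 1, 1, by rw [hcard]; ring⟩
        exact not_comm hG (fun a b => (IsSimpleGroup.comm_iff_isSolvable.2 hsol) a b)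
    obtain ⟨P⟩ := (inferInstance : Nonempty (Sylow 2 G))
    obtain ⟨hP, -⟩ := Classical.Small.sylow_card_eq P (m := p * q ^ b) (by rw [hcard]; ring) hodd
    obtain ⟨e, hS, he, -⟩ := Brauer.exists_setup (perfect (not_comm hG)) P hP
    have := Nat.le_of_dvd (by norm_num) hS.exists_y.1
    omega
  rcases main hG hp hq hpq (b := b) (g₀ := r) (by rw [hcard]; ring) (by omega) with
    ⟨m, F, iF, iFF, hF, hm, ⟨φ⟩⟩ | ⟨m, F, iF, iFF, hF, hm, hp3, ⟨φ⟩⟩
  · have hp5 : 4 ≤ p := by have := hr.two_le; omega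
    have hc := Classical.A5InPSL.card_psl (F := F)
    rw [← Nat.card_congr φ.toEquiv, hF, hcard] at hc
    have hodd : p % 2 = 1 := hp.eq_two_or_odd.resolve_left (by omega)
    have hgcd : Nat.gcd 2 (p - 1) = 2 := Nat.gcd_eq_left ⟨(p - 1) / 2, by omega⟩
    rw [hgcd] at hc
    have hm2 : 2 ≤ m := by
      rcases (by omega : m = 0 ∨ m = 1 ∨ 2 ≤ m) with h | h | h
      · rw [h] at hm; norm_num at hm; omega
      · rw [h] at hm; norm_num at hm; omega
      · exact h
    obtain ⟨n, rfl⟩ : ∃ n, m = n + 1 := ⟨m - 1, by omega⟩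
    have hn1 : 2 ≤ 2 ^ n := Nat.le_self_pow (by omega) 2
    have hpow : 2 ^ (n + 1) = 2 * 2 ^ n := pow_succ' 2 n
    rcases hm with hm | hm
    · have he := exp_even hp hm (by omega)
      have hp2 : p ^ 2 - 1 = 2 * (2 ^ (n + 1) * (2 ^ n + 1)) := by
        rw [Nat.sub_eq_iff_eq_add (Nat.one_le_pow _ _ hp.pos), hm, pow_succ]
        ring
      rw [hp2] at hc
      have hrq : r * q ^ b = 2 ^ (n + 1) * (2 ^ n + 1) :=
        Nat.eq_of_mul_eq_mul_left (show 0 < 2 * p by omega) (by linear_combination hc)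
      have h3 : 3 ∣ 2 ^ n + 1 := by
        obtain ⟨k, hk⟩ : Odd n := Nat.not_even_iff_odd.1 fun h => Nat.even_add_one.1 he h
        have hk' : Odd n := ⟨k, hk⟩
        simpa using hk'.nat_add_dvd_pow_add_pow 2 1
      have h2 : ¬ 2 ∣ 2 ^ n + 1 := by
        rw [Nat.dvd_add_right (dvd_pow_self 2 (by omega))]; norm_num
      have := three_eq hr hq (by omega) h2 h3 hrq
      exact Or.inl ⟨F, iF, iFF, by omega, ⟨φ⟩⟩
    · have hodd' : Odd (n + 1) := by
        rcases Nat.even_or_odd (n + 1) with ⟨k, hk⟩ | h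
        · exfalso
          have hd : 3 ∣ p := by
            rw [hm, hk, pow_add, ← mul_pow]
            simpa using Nat.sub_dvd_pow_sub_pow 4 1 k
          rcases hp.eq_one_or_self_of_dvd 3 hd with h' | h' <;> omega
        · exact h
      obtain ⟨t, ht⟩ : ∃ t, 2 ^ n = t + 1 := ⟨2 ^ n - 1, by omega⟩
      have hp2 : p ^ 2 - 1 = 2 * (2 ^ (n + 1) * t) := by
        rw [Nat.sub_eq_iff_eq_add (Nat.one_le_pow _ _ hp.pos), hm, hpow, ht,
          show 2 * (t + 1) - 1 = 2 * t + 1 by omega]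
        ring
      rw [hp2] at hc
      have hrq : r * q ^ b = 2 ^ (n + 1) * t :=
        Nat.eq_of_mul_eq_mul_left (show 0 < 2 * p by omega) (by linear_combination hc)
      have h3 : 3 ∣ t := by
        obtain ⟨k, hk⟩ : Even n := Nat.even_add_one.not_left.1 (Nat.not_even_iff_odd.2 hodd')
        rw [show t = 4 ^ k - 1 ^ k by rw [one_pow, show 4 ^ k = 2 ^ n by
          rw [hk, pow_add, ← mul_pow]; norm_num]; omega]
        simpa using Nat.sub_dvd_pow_sub_pow 4 1 k
      have h2 : ¬ 2 ∣ t := by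
        intro h
        have h' : 2 ∣ t + 1 := ht ▸ dvd_pow_self 2 (by omega)
        omega
      have := three_eq hr hq (by omega) h2 h3 hrq
      exact Or.inr ⟨F, iF, iFF, by omega, ⟨φ⟩⟩
  · have hc := Classical.A5InPSL.card_psl (F := F)
    rw [← Nat.card_congr φ.toEquiv, hF, hcard] at hc
    have he := exp_even hp hm hp3
    have hm2 : 2 ≤ m := by
      obtain ⟨k, rfl⟩ := he
      rcases (by omega : k = 0 ∨ 1 ≤ k) with h | h
      · rw [h] at hm; norm_num at hm; omega
      · omega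
    have h2m : 2 ∣ 2 ^ m := dvd_pow_self 2 (by omega)
    have hgcd : Nat.gcd 2 (2 ^ m - 1) = 1 :=
      Nat.coprime_two_left.2 (Nat.odd_iff.2 (by omega))
    obtain ⟨t, ht⟩ : ∃ t, 2 ^ m = t + 1 := ⟨2 ^ m - 1, by have := Nat.one_le_two_pow (n := m); omega⟩
    have hp2 : (2 ^ m) ^ 2 - 1 = t * p := by
      rw [Nat.sub_eq_iff_eq_add (Nat.one_le_pow _ _ (by positivity)), hm, ht]
      ring
    rw [hgcd, one_mul, hp2] at hc
    have hrq : r * q ^ b = 2 ^ m * t := Nat.eq_of_mul_eq_mul_left hp.pos (by linear_combination hc)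
    have h3 : 3 ∣ t := by
      obtain ⟨k, hk⟩ := he
      rw [show t = 4 ^ k - 1 ^ k by rw [one_pow, show 4 ^ k = 2 ^ m by
        rw [hk, pow_add, ← mul_pow]; norm_num]; omega]
      simpa using Nat.sub_dvd_pow_sub_pow 4 1 k
    have ht3 := three_eq hr hq hm2 (by omega) h3 hrq
    refine of_sixty ?_
    have h4 : 2 ^ m = 4 := by omega
    rw [hcard, mul_assoc, hrq, hm, h4, ht3]
    all_goals norm_num

theorem three_primes (hG : ¬ IsCyclic G) {p q r b : ℕ} (hp : p.Prime) (hq : q.Prime)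
    (hr : r.Prime) (hpq : p ≠ q) (hpr : p ≠ r) (hqr : q ≠ r)
    (hcard : Nat.card G = p * r * q ^ b) : Small G := by
  rcases lt_or_gt_of_ne hpr with h | h
  · exact three_primes_lt (b := b) hG hr hq hp hqr.symm (by rw [hcard]; ring) h
  · exact three_primes_lt hG hp hq hr hpq hcard h

end Cfsg.Agent.Fg24.TuanBrauer
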