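import Cfsg.Agent.Fg24.TuanBrauer.Count
import Cfsg.Agent.Fg24.HalfDeg.Main
import Cfsg.Agent.Fg24.Brauer.Main
import Cfsg.Agent.Fg24.SmallDeg.Quotient
import Cfsg.Agent.Classical.A5InPSL

/-!
# Simple groups of order `p q^b g₀` with `g₀ < p - 1`
-/

set_option autoImplicit false
set_option linter.unusedSectionVars false

open Cfsg
open scoped ComplexConjugate Classical

namespace Cfsg.Agent.Fg24.TuanBrauer

open Cfsg.Agent.BlockThms.OrderP

universe u

variable {G : Type u} [Group G] [Fintype G]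

/-- The two families. -/
def Concl (p : ℕ) (G : Type u) [Group G] : Prop :=
  (∃ (m : ℕ) (F : Type) (_ : Field F) (_ : Fintype F), Fintype.card F = p ∧
    (p = 2 ^ m + 1 ∨ p = 2 ^ m - 1) ∧
    Nonempty (G ≃* Matrix.ProjectiveSpecialLinearGroup (Fin 2) F)) ∨
  (∃ (m : ℕ) (F : Type) (_ : Field F) (_ : Fintype F), Fintype.card F = 2 ^ m ∧ p = 2 ^ m + 1 ∧
    3 < p ∧ Nonempty (G ≃* Matrix.ProjectiveSpecialLinearGroup (Fin 2) F))

omit [Fintype G] in
/-- `SL(2, 2^m)` is `PSL(2, 2^m)`. -/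
theorem psl_of_sl {F : Type} [Field F] [Fintype F] {m : ℕ} (hF : Fintype.card F = 2 ^ m)
    (hm0 : m ≠ 0) (φ : G ≃* Matrix.SpecialLinearGroup (Fin 2) F) :
    Nonempty (G ≃* Matrix.ProjectiveSpecialLinearGroup (Fin 2) F) := by
  have hm : Even (Fintype.card F) := by
    rw [hF]
    exact Nat.even_pow.2 ⟨even_two, hm0⟩
  have hbot : Subgroup.center (Matrix.SpecialLinearGroup (Fin 2) F) = ⊥ := by
    refine (Subgroup.eq_bot_iff_forall _).2 fun M hM => ?_
    obtain ⟨r, hr, hM'⟩ := Matrix.SpecialLinearGroup.mem_center_iff.1 hM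
    have h2 : ringChar F = 2 := by
      by_contra hc
      exact Nat.not_even_iff_odd.2 (Nat.odd_iff.2 (FiniteField.odd_card_of_char_ne_two hc)) hm
    have : CharP F 2 := h2 ▸ ringChar.charP F
    rw [Fintype.card_fin] at hr
    have hr1 : r = 1 := by
      have : (r - 1) ^ 2 = 0 := by rw [sub_pow_char, hr, one_pow, sub_self]
      exact sub_eq_zero.1 (pow_eq_zero_iff two_ne_zero |>.1 this)
    refine Subtype.ext ?_
    rw [← hM', hr1]
    simp
  exact ⟨φ.trans ((QuotientGroup.quotientBot (G := Matrix.SpecialLinearGroup (Fin 2) F)).symm.trans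
    (QuotientGroup.quotientMulEquivOfEq hbot.symm))⟩

variable [IsSimpleGroup G]

theorem not_comm (hG : ¬ IsCyclic G) : ¬ ∀ a b : G, a * b = b * a := fun h => hG (by
  letI : CommGroup G := { (inferInstance : Group G) with mul_comm := h }
  exact isCyclic_of_prime_card (p := Nat.card G) (hp := ⟨IsSimpleGroup.prime_card⟩) rfl)

theorem perfect (hnc : ¬ ∀ a b : G, a * b = b * a) : commutator G = ⊤ := by
  rcases (inferInstance : (commutator G).Normal).eq_bot_or_eq_top with h | h
  · refine absurd (fun a b => ?_) hnc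
    have h' : Subgroup.centralizer ((⊤ : Subgroup G) : Set G) = ⊤ := by
      rw [commutator_def, Subgroup.commutator_eq_bot_iff_le_centralizer] at h
      exact top_le_iff.1 h
    exact Subgroup.mem_centralizer_iff.1 (h'.ge (Subgroup.mem_top b)) a (Subgroup.mem_top a)
  · exact h

/-- Groups of order less than `p ^ 3`, with `p = 2 ^ m + 1`. -/
theorem of_small (hnc : ¬ ∀ a b : G, a * b = b * a) {p m : ℕ} [Fact p.Prime] (hpm : p = 2 ^ m + 1)
    (hdvd : p ∣ Nat.card G) (hbig : Nat.card G < p ^ 3) (P : Sylow p G)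
    (hP : ¬ (P : Subgroup G).Normal) : Concl p G := by
  have hno2 : ∀ N : Subgroup G, N.Normal → Nat.card N ≠ 2 := fun N hN h2 => by
    rcases hN.eq_bot_or_eq_top with h | h
    · rw [h, Subgroup.card_bot] at h2; omega
    · rw [h, Subgroup.card_top] at h2
      exact hnc fun a b => by
        have : IsCyclic G := isCyclic_of_prime_card (p := 2) (hp := ⟨Nat.prime_two⟩) h2
        let : CommGroup G := IsCyclic.commGroup
        exact mul_comm a b
  rcases Brauer.perfect_case (perfect hnc) hbig hdvd P hP hno2 with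
    ⟨F, iF, iFF, hF, -, hφ⟩ | ⟨m', F, iF, iFF, hF, hpm', hp3, ⟨φ⟩⟩
  · exact Or.inl ⟨m, F, iF, iFF, hF, Or.inl hpm, hφ⟩
  · refine Or.inr ⟨m', F, iF, iFF, hF, hpm', hp3, psl_of_sl hF (fun h0 => ?_) φ⟩
    rw [h0] at hpm'
    omega

/-- The theorem of Brauer and Tuan. -/
theorem main (hG : ¬ IsCyclic G) {p q b g₀ : ℕ} (hp : p.Prime) (hq : q.Prime) (hpq : p ≠ q)
    (hcard : Nat.card G = p * q ^ b * g₀) (hg : g₀ < p - 1) : Concl p G := by
  haveI := Fact.mk hp
  have hnc := not_comm hG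
  have hperf := perfect hnc
  have hZ := center_eq_bot (G := G) hnc
  have hg0 : g₀ ≠ 0 := fun h => by rw [h, mul_zero] at hcard; exact Nat.card_pos.ne' hcard
  have hpq' : p.Coprime (q ^ b) := ((Nat.coprime_primes hp hq).2 hpq).pow_right b
  have hpg : ¬ p ∣ g₀ := fun h => by have := Nat.le_of_dvd (by omega) h; omega
  have hdiv : p ∣ Nat.card G := hcard ▸ (dvd_mul_right p (q ^ b)).mul_right g₀
  have hsq : ¬ p ^ 2 ∣ Nat.card G := by
    rw [hcard, pow_two, mul_assoc, Nat.mul_dvd_mul_iff_left hp.pos]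
    exact fun h => (hp.dvd_mul.1 h).elim (hp.coprime_iff_not_dvd.1 hpq') hpg
  obtain ⟨P⟩ := (inferInstance : Nonempty (Sylow p G))
  have hP : Nat.card (P : Subgroup G) = p := by
    rw [P.card_eq_multiplicity]
    have h1 : (Nat.card G).factorization p = 1 := le_antisymm
      (Nat.le_of_not_lt fun h => hsq ((hp.pow_dvd_iff_le_factorization Nat.card_pos.ne').2 h))
      ((hp.dvd_iff_one_le_factorization Nat.card_pos.ne').1 hdiv)
    rw [h1, pow_one]
  obtain ⟨e, hS, he, hPn⟩ := Brauer.exists_setup hperf P hP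
  obtain ⟨B⟩ := Brauer.exists_blockData hS he
  have hnn : ∀ H : Subgroup G, H.Normal → Nat.card H ≠ p := fun H hH hc => by
    rcases hH.eq_bot_or_eq_top with h | h
    · rw [h, Subgroup.card_bot] at hc; exact hp.ne_one hc.symm
    · rw [h, Subgroup.card_top] at hc
      exact hG (isCyclic_of_prime_card (p := p) hc)
  have hep : e ∣ p - 1 := hS.exists_y.1
  have hep' : e ≤ p - 1 := Nat.le_of_dvd (by omega) hep
  -- degrees prime to `p` and `q` divide `g₀`
  have hdeg : ∀ χ : IrrCharacter G, ¬ p ∣ charDegree (χ : G → ℂ) →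
      ¬ q ∣ charDegree (χ : G → ℂ) → charDegree (χ : G → ℂ) ∣ g₀ := by
    intro χ h1 h2
    refine (Nat.Coprime.mul_right (hp.coprime_iff_not_dvd.2 h1).symm
      ((hq.coprime_iff_not_dvd.2 h2).symm.pow_right b)).dvd_of_dvd_mul_left ?_
    rw [← hcard]
    exact Char.IsIrr.degree_dvd_card χ.2
      (Blocks.charDegree_cast (Char.IsIrr.isCharacter χ.2)).symm
  have hone : ∀ χ : IrrCharacter G, charDegree (χ : G → ℂ) = 1 → χ = Blocks.triv G := fun χ h =>
    Brauer.eq_triv_of_degree_one hperf (by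
      rw [← Blocks.charDegree_cast (Char.IsIrr.isCharacter χ.2), h, Nat.cast_one])
  have hXp : ∀ χ ∈ B.X, ¬ p ∣ charDegree (χ : G → ℂ) := by
    intro χ hχ h
    have h1 := (B.degX χ hχ).symm.dvd
    have h2 : (p : ℤ) ∣ B.a χ := by
      have := dvd_sub (Int.natCast_dvd_natCast.2 h) h1
      simpa using this
    have := Int.le_of_dvd (by norm_num) ((dvd_abs _ _).2 h2 |>.trans (dvd_of_eq (show |B.a χ| = 1 by
      rcases B.a_or χ hχ with h | h <;> simp [h])))
    have := hp.two_le
    omega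
  have hXq : ∀ χ ∈ B.X, χ ≠ Blocks.triv G → q ∣ charDegree (χ : G → ℂ) := by
    intro χ hχ hne
    by_contra hq'
    have hle := Nat.le_of_dvd (Nat.pos_of_ne_zero hg0) (hdeg χ (hXp χ hχ) hq')
    have hpos : 0 < charDegree (χ : G → ℂ) := Blocks.charDegree_pos χ.2
    refine hne (hone χ ?_)
    have h1 := (B.degX χ hχ).symm.dvd
    rcases B.a_or χ hχ with h | h <;> rw [h] at h1
    · by_contra h2
      have := Int.le_of_dvd (by omega) h1
      omega
    · have := Int.le_of_dvd (by omega) h1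
      omega
  obtain ⟨θ, hθ⟩ : B.Y.Nonempty := by
    rw [← Finset.card_pos, B.cardY]
    exact Nat.div_pos hep' (by omega)
  obtain ⟨y, hy⟩ : ∃ y, y = charDegree (θ : G → ℂ) := ⟨_, rfl⟩
  have hy0 : 0 < y := hy ▸ Blocks.charDegree_pos θ.2
  have htriv1 : ((Blocks.triv G : IrrCharacter G) : G → ℂ) 1 = 1 := rfl
  -- the relation at the identity
  obtain ⟨c, hc⟩ : ∃ c : ℤ, B.s * (y : ℤ) + 1 = (q : ℤ) * c := by
    have h := B.rel θ hθ 1 Brauer.not_dvd_one_order
    rw [← Blocks.charDegree_cast (Char.IsIrr.isCharacter θ.2), ← hy,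
      ← Finset.add_sum_erase _ _ B.triv_mem, B.a_triv] at h
    choose! d hd using hXq
    refine ⟨-∑ χ ∈ B.X.erase (Blocks.triv G), B.a χ * (d χ : ℤ), ?_⟩
    have h2 : ∑ χ ∈ B.X.erase (Blocks.triv G), (B.a χ : ℂ) * (χ : G → ℂ) 1 =
        (q : ℂ) * ((∑ χ ∈ B.X.erase (Blocks.triv G), B.a χ * (d χ : ℤ) : ℤ) : ℂ) := by
      push_cast
      rw [Finset.mul_sum]
      refine Finset.sum_congr rfl fun χ hχ => ?_
      rw [← Blocks.charDegree_cast (Char.IsIrr.isCharacter χ.2),
        hd χ (Finset.mem_of_mem_erase hχ) (Finset.ne_of_mem_erase hχ)]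
      push_cast
      ring
    rw [h2] at h
    apply Int.cast_injective (α := ℂ)
    push_cast at h ⊢
    rw [htriv1] at h
    linear_combination h
  have hqy : ¬ q ∣ y := fun h => by
    have h1 : (q : ℤ) ∣ 1 := by
      have h2 : (q : ℤ) ∣ B.s * (y : ℤ) + 1 := ⟨c, hc⟩
      exact (Int.dvd_add_right ((Int.natCast_dvd_natCast.2 h).mul_left _)).1 h2
    exact hq.not_dvd_one (Int.natCast_dvd_natCast.1 h1)
  have hmodY := B.degY θ hθ
  rw [← hy, Int.modEq_iff_dvd] at hmodY
  have hpy : ¬ p ∣ y := fun h => by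
    have h1 : (p : ℤ) ∣ -((e : ℤ) * B.s) := by
      have h0 := Int.natCast_dvd_natCast.2 h
      simpa using dvd_add hmodY h0
    have h2 : p ∣ e := by
      rw [dvd_neg] at h1
      rcases B.s_or with h | h <;> rw [h] at h1
      · rw [mul_one] at h1; exact_mod_cast h1
      · rw [mul_neg, mul_one, dvd_neg] at h1; exact_mod_cast h1
    have := Nat.le_of_dvd (by omega) h2
    omega
  have hyg : y ∣ g₀ := hy ▸ hdeg θ (hy ▸ hpy) (hy ▸ hqy)
  have hyle : y ≤ g₀ := Nat.le_of_dvd (Nat.pos_of_ne_zero hg0) hyg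
  have hne : θ ≠ Blocks.triv G := fun h => Finset.disjoint_left.1 B.disj B.triv_mem (h ▸ hθ)
  have hy1 : y ≠ 1 := fun h => hne (hone θ (hy ▸ h))
  have hlow : p ≤ 2 * y + 1 := by
    by_contra h
    obtain ⟨H, hH, hc⟩ := BlockChar.DegreeBound.exists_normal_of_card _ G rfl hdiv hsq (θ : G → ℂ)
      (Char.IsIrr.isCharacter θ.2) (faithful_of_simple hne) (by rw [← hy]; omega)
    exact hnn H hH hc
  have hgy : g₀ = y := by
    obtain ⟨k, hk⟩ := hyg
    rcases (by omega : k = 0 ∨ k = 1 ∨ 2 ≤ k) with h | h | h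
    · rw [hk, h, mul_zero] at hg0; exact absurd rfl hg0
    · rw [hk, h, mul_one]
    · have := Nat.mul_le_mul_left y h
      omega
  subst hgy
  obtain ⟨M, hM⟩ := hep
  rcases B.s_or with hs | hs <;> rw [hs] at hmodY hc
  swap
  · -- degree `e`
    have hye : g₀ = e := by
      have h1 : ((e : ℤ) - g₀) = 0 := Int.eq_zero_of_abs_lt_dvd (m := (p : ℤ)) (by
        convert hmodY using 1
        ring) (abs_lt.2 ⟨by omega, by omega⟩)
      omega
    have hhalf : 2 * e + 1 = p := by
      rcases (by omega : M = 0 ∨ M = 1 ∨ M = 2 ∨ 3 ≤ M) with h | h | h | h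
      · rw [h, mul_zero] at hM; omega
      · rw [h, mul_one] at hM; omega
      · rw [h] at hM; omega
      · have := Nat.mul_le_mul_left e h
        omega
    obtain ⟨φ⟩ := HalfDeg.main hdiv hsq hnn (θ : G → ℂ) (Char.IsIrr.isCharacter θ.2)
      (faithful_of_simple hne) (by rw [← hy, hye, hhalf])
    let E : G ≃* Matrix.ProjectiveSpecialLinearGroup (Fin 2) (ZMod p) :=
      ((QuotientGroup.quotientBot (G := G)).symm.trans
        (QuotientGroup.quotientMulEquivOfEq hZ.symm)).trans φ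
    have hc1 := Classical.A5InPSL.card_psl (F := ZMod p)
    rw [← Nat.card_congr E.toEquiv, ZMod.card, hcard, hye] at hc1
    have hgcd : Nat.gcd 2 (p - 1) = 2 := Nat.gcd_eq_left ⟨e, by omega⟩
    have hp2 : p ^ 2 - 1 = 2 * e * (2 * (e + 1)) := by
      subst hhalf
      rw [Nat.sub_eq_iff_eq_add (Nat.one_le_pow _ _ (by omega))]
      ring
    rw [hgcd, hp2] at hc1
    have hqb : q ^ b = 2 * (e + 1) :=
      Nat.eq_of_mul_eq_mul_left (show 0 < 2 * p * e by have := hp.pos; positivity)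
        (by linear_combination hc1)
    have hq2 : q = 2 := ((Nat.prime_dvd_prime_iff_eq Nat.prime_two hq).1
      (Nat.prime_two.dvd_of_dvd_pow ⟨e + 1, hqb⟩)).symm
    refine Or.inl ⟨b, ZMod p, inferInstance, inferInstance, ZMod.card p, Or.inr ?_, ⟨E⟩⟩
    rw [← hq2, hqb]
    omega
  -- degree `p - e`
  have hye : g₀ + e = p := by
    have h1 : (p : ℤ) ∣ ((g₀ + e : ℕ) : ℤ) := by
      rw [← dvd_neg]
      refine hmodY.trans (dvd_of_eq ?_)
      push_cast
      ring
    obtain ⟨k, hk⟩ := Int.natCast_dvd_natCast.1 h1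
    rcases (by omega : k = 0 ∨ k = 1 ∨ 2 ≤ k) with h | h | h
    · rw [h, mul_zero] at hk; omega
    · rw [hk, h, mul_one]
    · have := Nat.mul_le_mul_left p h
      omega
  have hqy1 : q ∣ g₀ + 1 := by
    rw [← Int.natCast_dvd_natCast]
    exact ⟨c, by push_cast; linarith⟩
  have hee : e ∣ q ^ b := by
    have h1 : e ∣ Nat.card G := (Dvd.intro _ hS.card_normalizer.symm).trans
      (Subgroup.card_subgroup_dvd_card _)
    have hce : e.Coprime p := (hp.coprime_iff_not_dvd.2 fun h => by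
      have := Nat.le_of_dvd (by omega) h; omega).symm
    rw [hcard] at h1
    refine hce.dvd_of_dvd_mul_left ((Nat.Coprime.dvd_of_dvd_mul_right ?_ h1))
    have h2 : e.Coprime (g₀ + e) := hye.symm ▸ hce
    rwa [Nat.coprime_add_self_right] at h2
  obtain ⟨f, -, hf⟩ := (Nat.dvd_prime_pow hq).1 hee
  have hf0 : f ≠ 0 := fun h => by rw [h, pow_zero] at hf; omega
  have hqe : q ∣ e := hf ▸ dvd_pow_self q hf0
  have hq2 : q = 2 := by
    have h1 : q ∣ g₀ + 1 + e := dvd_add hqy1 hqe
    have h2 : q ∣ e * M := dvd_mul_of_dvd_left hqe M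
    have h3 : g₀ + 1 + e = e * M + 2 := by omega
    rw [h3, Nat.dvd_add_right h2] at h1
    exact (Nat.prime_dvd_prime_iff_eq hq Nat.prime_two).1 h1
  subst hq2
  by_cases h25 : e = 2 ∧ 5 < p
  · have hp7 : 7 ≤ p := by
      rcases (by omega : p = 6 ∨ 7 ≤ p) with h6 | h6
      · rw [h6] at hp; norm_num at hp
      · exact h6
    obtain ⟨Dt⟩ := SmallDeg.exists_datum hp7 P hP hPn θ (faithful_of_simple hne)
      (by rw [← hy]; omega)
    obtain ⟨a, F, iF, iFF, hpa, hF, ⟨φ⟩⟩ := Dt.main hPn (faithful_of_simple hne)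
    have : Subsingleton (Subgroup.center G) := hZ.symm ▸ (inferInstance : Subsingleton (⊥ : Subgroup G))
    let : Unique (Subgroup.center G) := uniqueOfSubsingleton 1
    refine Or.inr ⟨a, F, iF, iFF, hF, hpa, by omega, psl_of_sl hF (fun h0 => ?_)
      (φ.trans MulEquiv.prodUnique)⟩
    rw [h0] at hpa
    omega
  have hM1 : M ≠ 1 := fun h => by rw [h, mul_one] at hM; omega
  have hhalf : 2 * e + 1 = p := by
    by_cases he2 : e = 2
    · rcases (by omega : p ≤ 3 ∨ p = 4 ∨ p = 5) with h | h | h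
      · omega
      · rw [h] at hp; norm_num at hp
      · omega
    have hf2 : 2 ≤ f := by
      by_contra h
      rw [show f = 1 by omega, pow_one] at hf
      omega
    have h4 : 4 ∣ e := hf ▸ pow_dvd_pow 2 hf2
    have h4' : 4 ∣ e * M := dvd_mul_of_dvd_left h4 M
    obtain ⟨χ, hχ, hχne, hχ4⟩ : ∃ χ ∈ B.X, χ ≠ Blocks.triv G ∧ ¬ 4 ∣ charDegree (χ : G → ℂ) := by
      by_contra! hall
      have h := B.rel θ hθ 1 Brauer.not_dvd_one_order
      rw [← Blocks.charDegree_cast (Char.IsIrr.isCharacter θ.2), ← hy,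
        ← Finset.add_sum_erase _ _ B.triv_mem, B.a_triv] at h
      choose! d hd using hall
      have h2 : ∑ χ ∈ B.X.erase (Blocks.triv G), (B.a χ : ℂ) * (χ : G → ℂ) 1 =
          (4 : ℂ) * ((∑ χ ∈ B.X.erase (Blocks.triv G), B.a χ * (d χ : ℤ) : ℤ) : ℂ) := by
        push_cast
        rw [Finset.mul_sum]
        refine Finset.sum_congr rfl fun χ hχ => ?_
        rw [← Blocks.charDegree_cast (Char.IsIrr.isCharacter χ.2),
          hd χ (Finset.mem_of_mem_erase hχ) (Finset.ne_of_mem_erase hχ)]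
        push_cast
        ring
      rw [h2, hs] at h
      have h3 : (g₀ : ℤ) + 1 + 4 * ∑ χ ∈ B.X.erase (Blocks.triv G), B.a χ * (d χ : ℤ) = 0 := by
        apply Int.cast_injective (α := ℂ)
        push_cast at h ⊢
        rw [htriv1] at h
        linear_combination h
      omega
    have hχ2 := hXq χ hχ hχne
    obtain ⟨d, hd⟩ := hχ2
    have hdodd : ¬ 2 ∣ d := fun h => hχ4 (hd ▸ Nat.mul_dvd_mul (dvd_refl 2) h)
    have hdg : d ∣ g₀ := by
      have hd1 : d ∣ charDegree (χ : G → ℂ) := hd ▸ dvd_mul_left d 2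
      refine (Nat.Coprime.mul_right (hp.coprime_iff_not_dvd.2 fun h => hXp χ hχ (h.trans hd1)).symm
        ((Nat.prime_two.coprime_iff_not_dvd.2 hdodd).symm.pow_right b)).dvd_of_dvd_mul_left ?_
      rw [← hcard]
      exact hd1.trans (Char.IsIrr.degree_dvd_card χ.2
        (Blocks.charDegree_cast (Char.IsIrr.isCharacter χ.2)).symm)
    have hdle : d ≤ g₀ := Nat.le_of_dvd (by omega) hdg
    have hdp : 2 * d = p + 1 ∨ 2 * d + 1 = p := by
      have h1 := (B.degX χ hχ).symm.dvd
      rw [hd] at h1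
      rcases B.a_or χ hχ with h | h <;> rw [h] at h1
      · left
        have hd0 : 0 < d := Nat.pos_of_ne_zero fun h => hdodd (h ▸ dvd_zero 2)
        have h2 : p ∣ 2 * d - 1 := by
          rw [← Int.natCast_dvd_natCast, Nat.cast_sub (by omega)]
          exact h1
        obtain ⟨k, hk⟩ := h2
        rcases (by omega : k = 0 ∨ k = 1 ∨ 2 ≤ k) with h | h | h
        · rw [h, mul_zero] at hk; omega
        · rw [h, mul_one] at hk; omega
        · have := Nat.mul_le_mul_left p h
          omega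
      · right
        have h2 : p ∣ 2 * d + 1 := by
          rw [← Int.natCast_dvd_natCast]
          refine h1.trans (dvd_of_eq ?_)
          push_cast
          ring
        obtain ⟨k, hk⟩ := h2
        rcases (by omega : k = 0 ∨ k = 1 ∨ 2 ≤ k) with h | h | h
        · rw [h, mul_zero] at hk; omega
        · rw [h, mul_one] at hk; omega
        · have := Nat.mul_le_mul_left p h
          omega
    rcases hdp with h | h
    · obtain ⟨k, hk⟩ := hdg
      rcases (by omega : k = 0 ∨ k = 1 ∨ 2 ≤ k) with h' | h' | h'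
      · rw [hk, h', mul_zero] at hg0; exact absurd rfl hg0
      · rw [h', mul_one] at hk; omega
      · have := Nat.mul_le_mul_left d h'
        omega
    · exfalso
      refine hdodd ?_
      omega
  have hge : g₀ = e + 1 := by omega
  have hlt := card_lt hnc hS hsq he hhalf hf (b := b) (by rw [hcard, hge]) hne
    (by rw [← hy, hge]) (fun u hu hu1 => B.avgY θ hθ u hu hu1)
  exact of_small hnc (m := f + 1) (by rw [pow_succ, ← hf]; omega) hdiv hlt P hPn

end Cfsg.Agent.Fg24.TuanBrauer
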